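import Groth.Prelude.Def_W4c3irrattreebunCvg
import Mathlib

/-!
Covering diagrams and the field of constants.
-/

open IntermediateField

namespace Groth.Agent.CvgLib

universe u

variable (k K : Type u) [Field k] [Field K] [Algebra k K]

/-- A diagram over the field of constants is a diagram over the ground field. -/
theorem down (e : ℕ) (D : W4c3irrattreebun.CovDiag.{u} (algebraicClosure k K) K e) :
    ∃ D' : W4c3irrattreebun.CovDiag.{u} k K e,
      (Algebra.IsSeparable K D.KC → Algebra.IsSeparable K D'.KC) := by
  letI ikC : Algebra k D.KC := ((algebraMap K D.KC).comp (algebraMap k K)).toAlgebra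
  letI ikB : Algebra k D.KB :=
    ((algebraMap (algebraicClosure k K) D.KB).comp (algebraMap k (algebraicClosure k K))).toAlgebra
  haveI tK : IsScalarTower k K D.KC := IsScalarTower.of_algebraMap_eq fun _ => rfl
  haveI tB : IsScalarTower k D.KB D.KC := IsScalarTower.of_algebraMap_eq fun x => by
    show algebraMap K D.KC (algebraMap k K x) =
      algebraMap D.KB D.KC (algebraMap (algebraicClosure k K) D.KB (algebraMap k (algebraicClosure k K) x))
    letI := D.algkC
    haveI := D.towerB
    haveI := D.towerK
    rw [← IsScalarTower.algebraMap_apply (algebraicClosure k K) D.KB D.KC,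
      IsScalarTower.algebraMap_apply (algebraicClosure k K) K D.KC]
    rfl
  exact ⟨{ KC := D.KC
           KB := D.KB
           algkC := ikC
           towerK := tK
           algkB := ikB
           towerB := tB
           t := D.t
           transc := D.transc
           finrank_eq := D.finrank_eq }, id⟩

/-- A diagram over the ground field gives one over the field of constants, of no larger degree. -/
theorem up (e : ℕ) (D : W4c3irrattreebun.CovDiag.{u} k K e) :
    ∃ e' ≤ e, ∃ D' : W4c3irrattreebun.CovDiag.{u} (algebraicClosure k K) K e',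
      (Algebra.IsSeparable K D.KC → Algebra.IsSeparable K D'.KC) := by
  classical
  set S : Set D.KC := Set.range fun x : algebraicClosure k K => algebraMap K D.KC (x : K) with hS
  let B : IntermediateField D.KB D.KC := adjoin D.KB S
  letI iB : Algebra (algebraicClosure k K) B :=
    (((algebraMap K D.KC).comp (algebraMap (algebraicClosure k K) K)).codRestrict B
      fun x => subset_adjoin D.KB S ⟨x, rfl⟩).toAlgebra
  haveI tK : IsScalarTower (algebraicClosure k K) K D.KC := inferInstance
  haveI tB : IsScalarTower (algebraicClosure k K) B D.KC :=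
    IsScalarTower.of_algebraMap_eq fun _ => rfl
  haveI halg : Algebra.IsAlgebraic D.KB B := by
    refine isAlgebraic_adjoin ?_
    rintro _ ⟨x, rfl⟩
    have h1 : IsIntegral k (x : K) := (mem_algebraicClosure_iff.mp x.2).isIntegral
    exact (h1.map (IsScalarTower.toAlgHom k K D.KC)).tower_top
  have htr : Transcendental B D.t := D.transc.extendScalars B
  have hle : adjoin D.KB {D.t} ≤ (adjoin B {D.t}).restrictScalars D.KB :=
    adjoin_le_iff.mpr (Set.singleton_subset_iff.mpr (subset_adjoin B {D.t} rfl))
  let X : IntermediateField (adjoin D.KB {D.t}) D.KC := extendScalars hle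
  haveI hfin : Module.Finite X D.KC := Module.Finite.of_restrictScalars_finite (adjoin D.KB {D.t}) X D.KC
  haveI hfin' : Module.Finite (adjoin B {D.t}) D.KC := hfin
  have hd : Module.finrank (adjoin B {D.t}) D.KC ≤ e := by
    have h := Module.finrank_mul_finrank (adjoin D.KB {D.t}) X D.KC
    rw [D.finrank_eq] at h
    refine Nat.le_of_dvd ?_ ⟨Module.finrank (adjoin D.KB {D.t}) X, ?_⟩
    · rw [← D.finrank_eq]; exact Module.finrank_pos
    · exact h.symm.trans (Nat.mul_comm _ _)
  exact ⟨_, hd,
    { KC := D.KC
      KB := B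
      algkC := inferInstance
      towerK := tK
      algkB := iB
      towerB := tB
      t := D.t
      transc := htr
      finiteT := hfin'
      finrank_eq := rfl }, id⟩

theorem sInf_eq {P Q : ℕ → Prop} (h1 : ∀ e, P e → ∃ e' ≤ e, Q e') (h2 : ∀ e, Q e → P e) :
    sInf {e | P e} = sInf {e | Q e} := by
  rcases Set.eq_empty_or_nonempty {e | Q e} with hQ | hQ
  · have hP : {e | P e} = ∅ := Set.eq_empty_iff_forall_notMem.mpr fun e he => by
      obtain ⟨e', -, hq⟩ := h1 e he
      exact Set.eq_empty_iff_forall_notMem.mp hQ e' hq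
    rw [hP, hQ]
  · have hP : {e | P e}.Nonempty := ⟨_, h2 _ hQ.choose_spec⟩
    refine le_antisymm (Nat.sInf_le (h2 _ (Nat.sInf_mem hQ))) ?_
    obtain ⟨e', he', hq⟩ := h1 _ (Nat.sInf_mem hP)
    exact (Nat.sInf_le hq).trans he'

theorem cvg_eq : W4c3irrattreebun.cvg k K = W4c3irrattreebun.cvg (algebraicClosure k K) K :=
  sInf_eq (fun e ⟨D⟩ => let ⟨e', h, D', _⟩ := up k K e D; ⟨e', h, ⟨D'⟩⟩)
    (fun e ⟨D⟩ => let ⟨D', _⟩ := down k K e D; ⟨D'⟩)

theorem scvg_eq : W4c3irrattreebun.scvg k K = W4c3irrattreebun.scvg (algebraicClosure k K) K :=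
  sInf_eq (fun e ⟨D, hD⟩ => let ⟨e', h, D', h'⟩ := up k K e D; ⟨e', h, D', h' hD⟩)
    (fun e ⟨D, hD⟩ => let ⟨D', h'⟩ := down k K e D; ⟨D', h' hD⟩)

end Groth.Agent.CvgLib
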